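import Cfsg.Agent.H81.PJTab
import Cfsg.Agent.H618.AO.Lay
import Cfsg.Agent.ChevStructure.FieldMap
import Cfsg.Agent.Nodes.RGDChev
import Cfsg.Agent.KFacts.RgdFilt
import Cfsg.Agent.ChevalleyStructure.BruhatSplit
import Cfsg.Agent.FastGrp
import Cfsg.Agent.Prune
set_option linter.all false
prune_inst 0x7f00000000000000000000000000000000000000000000000000000000000000000000000000000000000000000000000000000000000000000000000000000000000000000000000000000000000000003fffffffffffffffffffffffffffbeffbdffffffff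
open scoped Cfsg.Agent.FastGrp

-- part: H618/AO/Levi
section
/-!
# Levi subgroups of odd index (helper618)

* `LJ_le_of` : the Levi subgroup `L_J` is generated by `T` and the root groups `X (± α_j)`, `j ∈ J`;
* `sum_tab_eq` : `∑_{w ∈ W_J} |U_w| = (∑_{v ∈ W_K} |U_v|) (∑ table)`;
* `odd_index_LJ` : `L_K` has odd index if `p` is odd and the table of representatives of `W_K \ W` has odd length.
-/

set_option autoImplicit false
set_option linter.unusedSectionVars false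

namespace Cfsg.Agent.H618.AO

open CoxeterSystem Cfsg.Agent.ChevalleyStructure.CoxeterGeom Cfsg.Agent.Tits.Roots Cfsg.Agent.Tits.Core
  Cfsg.Agent.Tits.Exchange Cfsg.Agent.Nodes.Reps Cfsg.Agent.Nodes.BNOf Cfsg.Agent.Nodes.StabComb
  Cfsg.Agent.Nodes.Bruhat Cfsg.Agent.Nodes.LeviDec Cfsg.Agent.Nodes.NormalForm Cfsg.Agent.Nodes.CardSup
  Cfsg.Agent.H612.WModel Cfsg.Agent.H81.PJSum Cfsg.Agent.H81.PJTab

section gen

variable {I W Y : Type*} [Fintype I] [DecidableEq I] [Group W] [Group Y] {M : CoxeterMatrix I}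
  {cs : CoxeterSystem M W} {A : I → I → ℤ} {h : IsCartan M A} {p : ℕ} {T : Subgroup Y} {n : I → Y}
  {X : (I → ℤ) → Subgroup Y} (R : RGD cs h p T n X)

include R

theorem n_mem_of {Z : Subgroup Y} (hT : T ≤ Z) {i : I} (h1 : X (sr i) ≤ Z) (h2 : X (-sr i) ≤ Z) : n i ∈ Z := by
  obtain ⟨u, hu, hu1⟩ := exists_ne_one R i
  have h3 : n i * u * (n i)⁻¹ ∈ X (-sr i) := by
    have := R.conj_mem (rp_simple cs R.nsys i) (isRoot_sr cs h i) hu
    rwa [rep_simple_sr] at this
  have h4 : n i * u * (n i)⁻¹ ≠ 1 := fun h3 => hu1 (mul_eq_left.1 (mul_inv_eq_one.1 h3))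
  obtain ⟨a, ha, t, ht, b, hb, e⟩ := R.rk1 i _ h3 h4
  have h5 : n i = (a * t)⁻¹ * (n i * u * (n i)⁻¹) * b⁻¹ := by
    conv_rhs => rw [e]
    group
  rw [h5]
  exact mul_mem (mul_mem (inv_mem (mul_mem (h1 ha) (hT ht))) (h2 h3)) (inv_mem (h1 hb))

theorem rp_mem_of {Z : Subgroup Y} (hT : T ≤ Z) {J : Set I} (hJ : ∀ j ∈ J, n j ∈ Z) {w : W} (hw : w ∈ WJ cs J)
    {g : Y} (hg : Rp cs R.nsys w g) : g ∈ Z := by
  obtain ⟨ω, hω, rfl⟩ := exists_word_of_mem_WJ cs hw
  clear hw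
  induction ω generalizing g with
  | nil =>
    rw [wordProd_nil] at hg
    exact hT hg.mem_of_one
  | cons i ω ih =>
    have hω' : ∀ j ∈ ω, j ∈ J := fun j hj => hω j (by simp [hj])
    rw [wordProd_cons] at hg
    have h1 : Rp cs R.nsys (cs.wordProd ω) ((n i)⁻¹ * g) := by
      have := (rp_simple cs R.nsys i).inv.mul hg
      rwa [inv_mul_cancel_left] at this
    have h2 := ih hω' h1
    have h3 : g = n i * ((n i)⁻¹ * g) := by group
    rw [h3]
    exact mul_mem (hJ i (hω i (by simp))) h2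

/-- **generators of the Levi subgroup** -/
theorem LJ_le_of [Finite W] {Z : Subgroup Y} {J : Set I} (hT : T ≤ Z) (hX : ∀ j ∈ J, X (sr j) ≤ Z ∧ X (-sr j) ≤ Z) :
    LJ cs h T X J ≤ Z := by
  refine sup_le hT (RGD.Sup_le fun x hx => ?_)
  obtain ⟨v, hv, j, hj, rfl⟩ := exists_of_mem_RootsJ hx
  obtain ⟨g, hg⟩ := exists_rp cs R.nsys v
  have hgZ : g ∈ Z := rp_mem_of R hT (fun j hj => n_mem_of R hT (hX j hj).1 (hX j hj).2) hv hg
  intro u hu
  rw [← R.conj_rp hg (isRoot_sr cs h j), mem_cj] at hu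
  have h2 := mul_mem (mul_mem hgZ ((hX j hj).1 hu)) (inv_mem hgZ)
  have h3 : g * (g⁻¹ * u * g) * g⁻¹ = u := by group
  rwa [h3] at h2

omit R in
theorem GG_eq_PJ [Finite W] (R : RGD cs h p T n X) : PJ cs h T X Set.univ = GG cs h T X := by
  ext g
  rw [mem_PJ_iff_cell R, mem_GG R]
  exact ⟨fun ⟨w, _, hc⟩ => ⟨w, hc⟩, fun ⟨w, hc⟩ => ⟨w, mem_univ' cs w, hc⟩⟩

omit R in
theorem card_sup_dvd {G : Type*} [Group G] [Finite G] {K H : Subgroup G}
    (h : H ≤ Subgroup.normalizer (K : Set G)) : Nat.card (H ⊔ K : Subgroup G) ∣ Nat.card H * Nat.card K := by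
  have hKn : (K.subgroupOf (K ⊔ H)).Normal :=
    Subgroup.normal_subgroupOf_of_le_normalizer (sup_le Subgroup.le_normalizer h)
  have h1 := Subgroup.relIndex_sup_left (H.subgroupOf (K ⊔ H)) (K.subgroupOf (K ⊔ H))
  rw [← Subgroup.subgroupOf_sup le_sup_left le_sup_right, Subgroup.subgroupOf_self,
    Subgroup.relIndex_subgroupOf le_sup_right, Subgroup.relIndex_top_right] at h1
  have h2 : Nat.card K * K.relIndex H = Nat.card (K ⊔ H : Subgroup G) := by
    rw [← h1, Subgroup.index_eq_card, ← Subgroup.card_mul_index (K.subgroupOf (K ⊔ H)), Subgroup.index_eq_card,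
      Nat.card_congr (Subgroup.subgroupOfEquivOfLe (le_sup_left : K ≤ K ⊔ H)).toEquiv]
  rw [sup_comm, ← h2, mul_comm (Nat.card H)]
  exact mul_dvd_mul_left _ (Subgroup.relIndex_dvd_card _ _)

end gen

section tab

variable {l : ℕ} {W Y : Type*} [Group W] [Group Y] {M : CoxeterMatrix (Fin l)}
  {cs : CoxeterSystem M W} {A : Fin l → Fin l → ℤ} {h : IsCartan M A} {p : ℕ} {T : Subgroup Y} {n : Fin l → Y}
  {X : (Fin l → ℤ) → Subgroup Y} {Al : List (List ℤ)} {J : List (Fin l)} {l0 : List ℤ}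
  {Tb : List (List ℤ × List (Fin l))}

/-- **The sum over `W_J` factorises.** -/
theorem sum_tab_eq (R : RGD cs h p T n X) [Finite W] (hA : ∀ i j : Fin l, (Al.getD i []).getD j 0 = A i j)
    (hc : chk l Al J l0 Tb = true) [Fintype ↥(WJ cs {j | j ∈ J})] [Fintype ↥(WJ cs {i | toF l l0 i = 0})] :
    ∑ w : ↥(WJ cs {j | j ∈ J}), Nat.card ↥(RGD.Sup X (NW cs h (w : W))) =
      (∑ v : ↥(WJ cs {i | toF l l0 i = 0}), Nat.card ↥(RGD.Sup X (NW cs h (v : W)))) *
        ∑ a : Fin Tb.length, Nat.card ↥(RGD.Sup X (NW cs h (cs.wordProd (Tb.get a).2))) := by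
  classical
  have O := ok_of_chk hc
  have h0 : ∀ i, 0 ≤ toF l l0 i := by
    intro i
    unfold toF
    have h1 : (i : ℕ) < l0.length := by rw [O.len0]; exact i.2
    rw [List.getD_eq_getElem _ _ h1]
    exact O.nn _ (List.getElem_mem _)
  have hsp := fun e he => O.spec (cs := cs) (h := h) hA e.2.length e he rfl
  refine sum_eq R (ι := Fin Tb.length) (fun a => cs.wordProd (Tb.get a).2) (l := toF l l0) (J := {j | j ∈ J}) h0
    (fun i hi => O.zero i hi) (fun a => (hsp _ (List.get_mem _ _)).2.1) (fun a => (hsp _ (List.get_mem _ _)).2.2.1)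
    (fun a b hab => ?_) (fun w hw => ?_)
  · have h1 : toF l (Tb.get a).1 = toF l (Tb.get b).1 := by
      rw [← (hsp _ (List.get_mem _ _)).1, ← (hsp _ (List.get_mem _ _)).1]
      exact hab
    have h2 := toF_inj (O.len_tab _ _ (List.get_mem _ _) rfl) (O.len_tab _ _ (List.get_mem _ _) rfl) h1
    have h3 := List.nodup_iff_injective_get.1 O.nodup
    have h4 : (Tb.map Prod.fst).get ⟨a, by rw [List.length_map]; exact a.2⟩ =
        (Tb.map Prod.fst).get ⟨b, by rw [List.length_map]; exact b.2⟩ := by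
      simp only [List.get_eq_getElem, List.getElem_map]
      exact h2
    have h5 := h3 h4
    rw [Fin.mk.injEq] at h5
    exact Fin.ext h5
  · -- every functional of the orbit is in the table
    obtain ⟨e0, he0, hb0⟩ := O.base
    have hex : ∃ e ∈ Tb, fl cs h (toF l l0) w = toF l e.1 := by
      obtain ⟨ω, hω, rfl⟩ := exists_word_of_mem_WJ cs hw
      clear hw
      induction ω using List.reverseRecOn with
      | nil =>
        refine ⟨e0, he0, ?_⟩
        rw [wordProd_nil, fl_one, hb0]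
      | append_singleton ω j ih =>
        obtain ⟨e, he, h1⟩ := ih (fun i hi => hω i (List.mem_append_left _ hi))
        have hj : j ∈ J := hω j (by simp)
        obtain ⟨e', he', h2⟩ := O.cl e he j hj
        refine ⟨e', he', ?_⟩
        rw [wordProd_append, wordProd_singleton, fl_mul_simple, h1, h2,
          O.toF_fire hA (O.len_tab _ e he rfl)]
    obtain ⟨e, he, h1⟩ := hex
    obtain ⟨a, rfl⟩ := List.mem_iff_get.1 he
    exact ⟨a, by rw [h1]; exact ((hsp _ (List.get_mem _ _)).1).symm⟩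

/-- **a Levi subgroup of odd index** -/
theorem odd_index_LJ (R : RGD cs h p T n X) [Finite W] [Finite Y] [hp : Fact p.Prime] (hp2 : p ≠ 2)
    (hG : GG cs h T X = ⊤) (hA : ∀ i j : Fin l, (Al.getD i []).getD j 0 = A i j) (hJ : ∀ j, j ∈ J)
    (hc : chk l Al J l0 Tb = true) (hodd : Odd Tb.length) :
    Odd (LJ cs h T X {i | toF l l0 i = 0}).index := by
  classical
  have hJ' : {j | j ∈ J} = (Set.univ : Set (Fin l)) := Set.eq_univ_iff_forall.2 hJ
  have hf1 : Fintype ↥(WJ cs {j | j ∈ J}) := Fintype.ofFinite _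
  have hf2 : Fintype ↥(WJ cs {i | toF l l0 i = 0}) := Fintype.ofFinite _
  have hpo : Odd p := hp.out.odd_of_ne_two hp2
  have hsub : ∀ H : Subgroup Y, H ≤ RGD.Sup X (RGD.Pos cs h) → Odd (Nat.card ↥H) := by
    intro H hH
    obtain ⟨k, hk⟩ := (IsPGroup.iff_card (p := p)).1 (R.isPGroup_Upos.to_le hH)
    rw [hk]
    exact hpo.pow
  have h1 := Cfsg.Agent.H296.FFourPar.card_PJ_gen R {j | j ∈ J}
  have h2 := Cfsg.Agent.H296.FFourPar.card_PJ_gen R {i | toF l l0 i = 0}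
  rw [sum_tab_eq R hA hc, ← mul_assoc, ← h2] at h1
  have h3 : Nat.card ↥(PJ cs h T X {j | j ∈ J}) = Nat.card Y := by
    rw [hJ', GG_eq_PJ R, hG, Subgroup.card_top]
  have h4 : Odd (∑ a : Fin Tb.length, Nat.card ↥(RGD.Sup X (NW cs h (cs.wordProd (Tb.get a).2)))) := by
    rw [Finset.odd_sum_iff_odd_card_odd]
    have h5 : (Finset.univ.filter fun a : Fin Tb.length =>
        Odd (Nat.card ↥(RGD.Sup X (NW cs h (cs.wordProd (Tb.get a).2))))) = Finset.univ := by
      rw [Finset.filter_true_of_mem]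
      intro a _
      exact hsub _ (RGD.Sup_mono fun x hx => ⟨hx.1, hx.2.1⟩)
    rw [h5, Finset.card_univ, Fintype.card_fin]
    exact hodd
  have h6 : Nat.card ↥(PJ cs h T X {i | toF l l0 i = 0}) ∣
      Nat.card ↥(LJ cs h T X {i | toF l l0 i = 0}) * Nat.card ↥(VJ cs h X {i | toF l l0 i = 0}) :=
    card_sup_dvd (LJ_le_normalizer_VJ R _)
  have h7 : (LJ cs h T X {i | toF l l0 i = 0}).index ∣ Nat.card ↥(VJ cs h X {i | toF l l0 i = 0}) *
      ∑ a : Fin Tb.length, Nat.card ↥(RGD.Sup X (NW cs h (cs.wordProd (Tb.get a).2))) := by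
    have h8 := Subgroup.card_mul_index (LJ cs h T X {i | toF l l0 i = 0})
    rw [← h3, h1] at h8
    refine Nat.dvd_of_mul_dvd_mul_left (Nat.card_pos (α := ↥(LJ cs h T X {i | toF l l0 i = 0}))) ?_
    rw [h8, ← mul_assoc]
    exact Nat.mul_dvd_mul_right h6 _
  exact Odd.of_dvd_nat ((hsub _ (VJ_le_U _)).mul h4) h7

end tab

end Cfsg.Agent.H618.AO
end

-- part: H618/AO/Fld
section
/-!
# Field automorphisms of odd order of the Chevalley groups centralise a Sylow `2`-subgroup (helper618)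

* `iota` : `D.group F₀ → D.group F` for a homomorphism of fields;
* `exists_cen_field` : `σ` of odd order, `|G(F)|_2 = |G(F₀)|_2` (`F₀` any field with a homomorphism to the fixed field of `σ`).
* `exists_fix` : the fixed field, `|F| = |F₀| ^ orderOf σ`.
* `geom_odd` : `q₀ ^ (m d) - 1 = (q₀ ^ d - 1) s`, `s` odd.
-/

set_option autoImplicit false

namespace Cfsg.Agent.H618.AO

open Cfsg Cfsg.Lie Subgroup
open Cfsg.Agent.ChevalleyStructure
open Cfsg.Agent.ChevalleyStructure.Elts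
open Cfsg.Agent.H79
open Cfsg.Agent.H79.SimpleGen
open Cfsg.Agent.H79.FieldAuts
open Cfsg.Agent.H79.OutChev
open Cfsg.Agent.H561.RV
open Cfsg.Agent.ChevStructure.FieldMap (x_map xMat_map)

/-- a subgroup of odd index contains a Sylow `2`-subgroup -/
theorem exists_sylow_le {S : Type*} [Group S] [Finite S] {H : Subgroup S} (h : Odd H.index) :
    ∃ P : Sylow 2 S, (P : Subgroup S) ≤ H := by
  obtain ⟨Q⟩ : Nonempty (Sylow 2 H) := inferInstance
  have h1 : ¬ 2 ∣ ((Q : Subgroup H).map H.subtype).index := by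
    rw [index_map_subtype]
    intro hd
    rcases (Nat.prime_two.dvd_mul).1 hd with h2 | h2
    · exact Q.not_dvd_index h2
    · exact (Nat.not_even_iff_odd.2 h) (even_iff_two_dvd.2 h2)
  exact ⟨(Q.isPGroup'.map H.subtype).toSylow h1, map_subtype_le _⟩

section iota

variable {F₀ F : Type} [Field F₀] [Field F] (D : ChevalleyDatum) (f : F₀ →+* F)

theorem map_mem {g : GL D.Idx F₀} (hg : g ∈ D.group F₀) : Matrix.GeneralLinearGroup.map f g ∈ D.group F := by
  have h1 : D.group F₀ ≤ (D.group F).comap (Matrix.GeneralLinearGroup.map f) := by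
    unfold ChevalleyDatum.group
    rw [closure_le]
    rintro g ⟨r, t, hg⟩
    refine subset_closure ⟨r, f t, ?_⟩
    rw [← xMat_map, ← hg]
    rfl
  exact h1 hg

/-- `D.group F₀ → D.group F` -/
def iota : ↥(D.group F₀) →* ↥(D.group F) :=
  ((Matrix.GeneralLinearGroup.map f).comp (D.group F₀).subtype).codRestrict (D.group F) (fun g => map_mem D f g.2)

theorem iota_injective : Function.Injective (iota D f) := by
  intro a b hab
  have h1 : Matrix.GeneralLinearGroup.map f (a : GL D.Idx F₀) = Matrix.GeneralLinearGroup.map f (b : GL D.Idx F₀) :=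
    congrArg Subtype.val hab
  apply Subtype.ext
  apply Units.ext
  ext i j
  have h2 := congrArg (fun g : GL D.Idx F => (g : Matrix D.Idx D.Idx F) i j) h1
  exact f.injective h2

variable {D}

theorem iota_xS (hD : InList D) (r : ℕ) (t : F₀) : iota D f (xS hD r t) = xS hD r (f t) := by
  rw [eq_xS_iff]
  show (((xS hD r t : ↥(D.group F₀)) : GL D.Idx F₀) : Matrix D.Idx D.Idx F₀).map f = _
  rw [mat_xS, x_map]

/-- the field automorphism fixes `D.group F₀` -/
theorem field_iota (hD : InList D) {σ : RingAut F} (hσ : ∀ t : F₀, σ (f t) = f t) (g : ↥(D.group F₀)) :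
    fieldHom hD F σ (iota D f g) = iota D f g := by
  have h1 : ((fieldHom hD F σ : MulAut _).toMonoidHom.comp (iota D f)) = iota D f := by
    apply hom_ext hD
    · intro i hi t
      show fieldHom hD F σ (iota D f _) = _
      rw [iota_xS, fieldHom_xS hD σ (simple_lt hD hi), hσ]
    · intro i hi t
      show fieldHom hD F σ (iota D f _) = _
      rw [iota_xS, fieldHom_xS hD σ (neg_simple_lt hD hi), hσ]
  exact DFunLike.congr_fun h1 g

/-- **a field automorphism centralises a Sylow `2`-subgroup** -/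
theorem exists_cen_field [Finite F] (hD : InList D) {σ : RingAut F} (hσ : ∀ t : F₀, σ (f t) = f t) {u v : ℕ}
    (hv : Odd v) (huv : Nat.card ↥(D.group F) * u = Nat.card ↥(D.group F₀) * v) :
    ∃ Q : Sylow 2 ↥(D.group F), fieldHom hD F σ ∈ cen Q := by
  have hF₀ : Finite F₀ := Finite.of_injective f f.injective
  have hi : Odd (iota D f).range.index := by
    have h1 : Nat.card ↥(D.group F₀) = Nat.card ↥(iota D f).range :=
      Nat.card_congr (MonoidHom.ofInjective (iota_injective D f)).toEquiv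
    rw [← card_mul_index (iota D f).range, h1, mul_assoc] at huv
    have h2 := Nat.eq_of_mul_eq_mul_left Nat.card_pos huv
    exact Odd.of_dvd_nat hv ⟨u, h2.symm⟩
  obtain ⟨Q, hQ⟩ := exists_sylow_le hi
  refine ⟨Q, fun x hx => ?_⟩
  obtain ⟨g, rfl⟩ := hQ hx
  exact field_iota f hD hσ g

end iota

/-- the fixed field -/
theorem exists_fix {F : Type} [Field F] [Finite F] (σ : RingAut F) :
    ∃ F₀ : Subfield F, (∀ t : F₀, σ (F₀.subtype t) = F₀.subtype t) ∧ Nat.card F = Nat.card F₀ ^ orderOf σ := by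
  have hfin : Finite (RingAut F) := Finite.of_injective (fun f : RingAut F => (f : F → F)) DFunLike.coe_injective
  have := Fintype.ofFinite ↥(Subgroup.zpowers σ)
  refine ⟨FixedPoints.subfield ↥(Subgroup.zpowers σ) F, fun t => ?_, ?_⟩
  · exact t.2 ⟨σ, mem_zpowers σ⟩
  · have h1 := FixedPoints.finrank_eq_card ↥(Subgroup.zpowers σ) F
    rw [Module.natCard_eq_pow_finrank (K := FixedPoints.subfield ↥(Subgroup.zpowers σ) F) (V := F), h1,
      ← Nat.card_eq_fintype_card, Nat.card_zpowers]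

theorem geom_odd {a m : ℕ} (ha : Odd a) (hm : Odd m) : ∃ s, Odd s ∧ a ^ m - 1 = (a - 1) * s := by
  refine ⟨∑ i ∈ Finset.range m, a ^ i, ?_, ?_⟩
  · rw [Finset.odd_sum_iff_odd_card_odd, Finset.filter_true_of_mem (fun i _ => ha.pow), Finset.card_range]
    exact hm
  · obtain ⟨x, rfl⟩ : ∃ x, a = x + 1 := ⟨a - 1, (Nat.sub_add_cancel ha.pos).symm⟩
    have h1 := geom_sum_mul_add x m
    rw [← h1, Nat.add_sub_cancel, Nat.add_sub_cancel, mul_comm]

theorem geom_odd' {q₀ m : ℕ} (hq : Odd q₀) (hm : Odd m) (d : ℕ) :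
    ∃ s, Odd s ∧ (q₀ ^ m) ^ d - 1 = (q₀ ^ d - 1) * s := by
  rw [← pow_mul, mul_comm m d, pow_mul]
  exact geom_odd hq.pow hm

end Cfsg.Agent.H618.AO
end

-- part: H618/AO/DiagE6
section
/-!
# The diagonal automorphisms of `E₆(q)`, `q` odd, centralise a Sylow `2`-subgroup modulo inner automorphisms (helper618)
-/

set_option autoImplicit false

namespace Cfsg.Agent.H618.AO

open Cfsg Cfsg.Lie Subgroup
open Cfsg.Agent.ChevalleyStructure
open Cfsg.Agent.ChevalleyStructure.Elts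
open Cfsg.Agent.H79
open Cfsg.Agent.H79.SimpleGen
open Cfsg.Agent.H79.FieldAuts
open Cfsg.Agent.H79.OutChev
open Cfsg.Agent.H561.RV
open Cfsg.Agent.Nodes.RGDChev
open Cfsg.Agent.Tits.Roots (sr)

section inn

variable {D : ChevalleyDatum} (hD : InList D) (F : Type) [Field F]

/-- the scalings realised by inner automorphisms -/
def innT : Subgroup (Fin D.rank → Fˣ) where
  carrier := {c | ∃ g : ↥(D.group F), IsD hD c (MulAut.conj g)}
  one_mem' := ⟨1, by rw [map_one]; exact IsD.one hD⟩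
  mul_mem' := by
    rintro c d ⟨g, hg⟩ ⟨k, hk⟩
    exact ⟨g * k, by rw [map_mul]; exact hg.mul hk⟩
  inv_mem' := by
    rintro c ⟨g, hg⟩
    exact ⟨g⁻¹, by rw [map_inv]; exact hg.inv⟩

variable {F}

theorem simple_mem_innT (i : Fin D.rank) (u : Fˣ) : (fun j : Fin D.rank => u ^ D.cartan i (D.simple j)) ∈ innT hD F := by
  refine ⟨⟨hG hD (D.simple i) (u : F), hG_mem_group hD _ _⟩, fun j t => ?_⟩
  have h1 := BruhatSplit.hG_simple_conj hD i.2 (simple_lt hD j.2) u.ne_zero t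
  have h2 := BruhatSplit.hG_simple_conj hD i.2 (neg_simple_lt hD j.2) u.ne_zero t
  constructor
  · apply Subtype.ext
    refine h1.trans ?_
    rw [Units.val_zpow_eq_zpow_val]
    rfl
  · apply Subtype.ext
    refine h2.trans ?_
    have h3 : D.cartan i (D.neg (D.simple j)) = -D.cartan i (D.simple j) :=
      RootVec.cartan_neg (RootVecTab.checked_of_mem hD) i.2 (simple_lt hD j.2)
    rw [h3, zpow_neg, ← Units.val_zpow_eq_zpow_val, ← Units.val_inv_eq_inv_val]
    rfl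

theorem prod_mem_innT (t : Fin D.rank → Fˣ) :
    (fun j : Fin D.rank => ∏ i : Fin D.rank, t i ^ D.cartan i (D.simple j)) ∈ innT hD F := by
  have h1 : (fun j : Fin D.rank => ∏ i : Fin D.rank, t i ^ D.cartan i (D.simple j)) =
      ∏ i : Fin D.rank, fun j : Fin D.rank => t i ^ D.cartan i (D.simple j) := by
    funext j
    rw [Finset.prod_apply]
  rw [h1]
  exact prod_mem fun i _ => simple_mem_innT hD i (t i)

/-- a diagonal element is centralised by the diagonal automorphisms -/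
theorem diag_fix {α : MulAut ↥(D.group F)} (hα : α ∈ diagSub hD F) {t : ↥(D.group F)}
    (ht : (t : GL D.Idx F) ∈ D.diagonalSubgroup F) : α t = t := by
  obtain ⟨c, hc⟩ := hα
  obtain ⟨χ, hχ, rfl⟩ := CharDiag.eq_diagAut hD ((DiagAuts.diagFacts hD F).isDiag c α hc)
  obtain ⟨ψ, hψ⟩ := HMatDiagAll.mem_torus.1 (HMatDiagAll.diagonalSubgroup_le_torus hD ht)
  apply Subtype.ext
  rw [CharDiag.coe_diagAut, mul_inv_eq_iff_eq_mul]
  apply Units.ext
  rw [Units.val_mul, Units.val_mul, CharDiag.coe_hatG, hψ]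
  unfold ChevalleyDatum.charDiag
  rw [Matrix.diagonal_mul_diagonal, Matrix.diagonal_mul_diagonal]
  congr 1
  funext i
  exact mul_comm _ _

end inn

section e6

/-- the Cartan matrix -/
def aE6 : List (List ℤ) :=
  [[2, 0, -1, 0, 0, 0], [0, 2, 0, -1, 0, 0], [-1, 0, 2, -1, 0, 0], [0, -1, -1, 2, -1, 0], [0, 0, 0, -1, 2, -1], [0, 0, 0, 0, -1, 2]]

theorem aE6_ok : ∀ i j : Fin 6, (aE6.getD i []).getD j 0 = CoxeterGeomTypes.cartanOf chevE6 6 i j := by decide +kernel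

/-- the orbit of the first fundamental weight -/
def tE6 : List (List ℤ × List (Fin 6)) :=
   [([1, 0, 0, 0, 0, 0], []),
    ([-1, 0, 1, 0, 0, 0], [0]),
    ([0, 0, -1, 1, 0, 0], [0, 2]),
    ([0, 1, 0, -1, 1, 0], [0, 2, 3]),
    ([0, -1, 0, 0, 1, 0], [0, 2, 3, 1]),
    ([0, 1, 0, 0, -1, 1], [0, 2, 3, 4]),
    ([0, -1, 0, 1, -1, 1], [0, 2, 3, 1, 4]),
    ([0, 1, 0, 0, 0, -1], [0, 2, 3, 4, 5]),
    ([0, 0, 1, -1, 0, 1], [0, 2, 3, 1, 4, 3]),
    ([0, -1, 0, 1, 0, -1], [0, 2, 3, 1, 4, 5]),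
    ([1, 0, -1, 0, 0, 1], [0, 2, 3, 1, 4, 3, 2]),
    ([0, 0, 1, -1, 1, -1], [0, 2, 3, 1, 4, 3, 5]),
    ([-1, 0, 0, 0, 0, 1], [0, 2, 3, 1, 4, 3, 2, 0]),
    ([1, 0, -1, 0, 1, -1], [0, 2, 3, 1, 4, 3, 2, 5]),
    ([0, 0, 1, 0, -1, 0], [0, 2, 3, 1, 4, 3, 5, 4]),
    ([-1, 0, 0, 0, 1, -1], [0, 2, 3, 1, 4, 3, 2, 0, 5]),
    ([1, 0, -1, 1, -1, 0], [0, 2, 3, 1, 4, 3, 2, 5, 4]),
    ([-1, 0, 0, 1, -1, 0], [0, 2, 3, 1, 4, 3, 2, 0, 5, 4]),
    ([1, 1, 0, -1, 0, 0], [0, 2, 3, 1, 4, 3, 2, 5, 4, 3]),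
    ([-1, 1, 1, -1, 0, 0], [0, 2, 3, 1, 4, 3, 2, 0, 5, 4, 3]),
    ([1, -1, 0, 0, 0, 0], [0, 2, 3, 1, 4, 3, 2, 5, 4, 3, 1]),
    ([-1, -1, 1, 0, 0, 0], [0, 2, 3, 1, 4, 3, 2, 0, 5, 4, 3, 1]),
    ([0, 1, -1, 0, 0, 0], [0, 2, 3, 1, 4, 3, 2, 0, 5, 4, 3, 2]),
    ([0, -1, -1, 1, 0, 0], [0, 2, 3, 1, 4, 3, 2, 0, 5, 4, 3, 1, 2]),
    ([0, 0, 0, -1, 1, 0], [0, 2, 3, 1, 4, 3, 2, 0, 5, 4, 3, 1, 2, 3]),
    ([0, 0, 0, 0, -1, 1], [0, 2, 3, 1, 4, 3, 2, 0, 5, 4, 3, 1, 2, 3, 4]),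
    ([0, 0, 0, 0, 0, -1], [0, 2, 3, 1, 4, 3, 2, 0, 5, 4, 3, 1, 2, 3, 4, 5])]

theorem tE6_ok : H81.PJTab.chk 6 aE6 [0, 1, 2, 3, 4, 5] [1, 0, 0, 0, 0, 0] tE6 = true := by decide +kernel

theorem tE6_odd : Odd tE6.length := by decide

/-- the inverse -/
def bE6 (i k : ℕ) : ℤ := ([[0, 1, 3, 2, 4, 2], [0, 2, 3, 3, 4, 2], [0, 2, 5, 4, 6, 3], [0, 3, 6, 6, 8, 4],
  [0, 2, 4, 4, 6, 3], [0, 1, 2, 2, 3, 2]].getD i []).getD k 0

theorem bE6_ok : ∀ j k : Fin chevE6.rank, (j : ℕ) ≠ 0 →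
    ∑ i : Fin chevE6.rank, bE6 i k * chevE6.cartan i (chevE6.simple j) = if k = j then 1 else 0 := by decide +kernel

theorem hE6 : InList chevE6 := by simp [InList]

theorem typeE6 : IsType chevE6 6 CoxeterMatrix.E₆ := by simp [IsType, typeList]

variable {F : Type} [Field F]

/-- every scaling is a scaling at the first node times an inner one -/
theorem exists_inn (c : Fin chevE6.rank → Fˣ) :
    ∃ c' ∈ innT hE6 F, ∀ j : Fin chevE6.rank, (j : ℕ) ≠ 0 → c' j = c j := by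
  refine ⟨_, prod_mem_innT hE6 (fun i => ∏ k : Fin chevE6.rank, c k ^ bE6 i k), fun j hj => ?_⟩
  have h1 : ∀ i : Fin chevE6.rank, (∏ k : Fin chevE6.rank, c k ^ bE6 i k) ^ chevE6.cartan i (chevE6.simple j) =
      ∏ k : Fin chevE6.rank, c k ^ (bE6 i k * chevE6.cartan i (chevE6.simple j)) := by
    intro i
    rw [← Finset.prod_zpow]
    exact Finset.prod_congr rfl fun k _ => (zpow_mul _ _ _).symm
  simp only [h1]
  rw [Finset.prod_comm]
  have h2 : ∀ k : Fin chevE6.rank, ∏ i : Fin chevE6.rank, c k ^ (bE6 i k * chevE6.cartan i (chevE6.simple j)) =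
      c k ^ (if k = j then (1 : ℤ) else 0) := by
    intro k
    rw [← bE6_ok j k hj]
    exact (map_sum (zmultiplesHom (Additive Fˣ) (Additive.ofMul (c k))) _ _).symm
  simp only [h2]
  rw [Finset.prod_eq_single j]
  · simp
  · intro k _ hk
    simp [hk]
  · intro h
    exact absurd (Finset.mem_univ j) h

/-- the index set of the `D₅`-parabolic subgroup -/
abbrev jE6 : Set (Fin 6) := {i | H81.PJTab.toF 6 [1, 0, 0, 0, 0, 0] i = 0}

theorem ne_of_mem_jE6 {j : Fin 6} (hj : j ∈ jE6) : (j : ℕ) ≠ 0 := by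
  intro h0
  have h1 : j = 0 := Fin.ext h0
  subst h1
  have h2 : H81.PJTab.toF 6 [1, 0, 0, 0, 0, 0] 0 = 0 := hj
  exact absurd h2 (by decide)

/-- **the diagonal automorphisms of `E₆(q)`** -/
theorem diag_e6 [Finite F] (hodd : ringChar F ≠ 2) :
    ∃ P : Sylow 2 ↥(chevE6.group F), diagSub hE6 F ≤ cen P ⊔ Inn ↥(chevE6.group F) := by
  classical
  have hp : Fact (ringChar F).Prime := ⟨CharP.char_is_prime F (ringChar F)⟩
  have hfW := finite_W typeE6 CoxeterMatrix.E₆.toCoxeterSystem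
  have R := rgd (K := F) typeE6 CoxeterMatrix.E₆.toCoxeterSystem (ringChar F)
  have hG := KFacts.RgdFilt.GG_eq_top (T := (chevE6.diagonalSubgroup F).subgroupOf (chevE6.group F))
    (G1_eq_top (K := F) typeE6 CoxeterMatrix.E₆.toCoxeterSystem)
  have hidx := odd_index_LJ R hodd hG aE6_ok (J := [0, 1, 2, 3, 4, 5]) (by decide) tE6_ok tE6_odd
  obtain ⟨P, hP⟩ := exists_sylow_le hidx
  refine ⟨P, ?_⟩
  rintro α ⟨c, hα⟩
  obtain ⟨c', ⟨g, hg⟩, hcc⟩ := exists_inn c
  -- `β` fixes the Levi subgroup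
  have hβ : IsD hE6 (c * c'⁻¹) (α * (MulAut.conj g)⁻¹) := hα.mul hg.inv
  have hβP : α * (MulAut.conj g)⁻¹ ∈ cen P := by
    let Z : Subgroup ↥(chevE6.group F) :=
      (α * (MulAut.conj g)⁻¹ : MulAut ↥(chevE6.group F)).toMonoidHom.eqLocus (MonoidHom.id _)
    have hZ : ∀ y, y ∈ Z ↔ (α * (MulAut.conj g)⁻¹) y = y := fun _ => Iff.rfl
    have hle := LJ_le_of R (Z := Z) (J := jE6)
      (fun t ht => (hZ t).2 (diag_fix hE6 ⟨_, hβ⟩ (Subgroup.mem_subgroupOf.1 ht))) (fun j hj => ?_)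
    · intro x hx
      exact hle (hP hx)
    · have h0 : ∀ k : Fin chevE6.rank, (k : ℕ) ≠ 0 → (c * c'⁻¹) k = 1 := by
        intro k hk
        rw [Pi.mul_apply, Pi.inv_apply, hcc k hk, mul_inv_cancel]
      obtain ⟨k, hk⟩ : ∃ k : Fin chevE6.rank, k = j := ⟨j, rfl⟩
      have hkj : (k : ℕ) = j := congrArg Fin.val hk
      have h1 : (c * c'⁻¹) k = 1 := h0 k (hkj ▸ ne_of_mem_jE6 hj)
      constructor
      · intro y hy
        rw [Subgroup.mem_subgroupOf, XV_sr typeE6, mem_rootSubgroup_iff hE6] at hy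
        obtain ⟨t, ht⟩ := hy
        have h2 : y = xS hE6 (chevE6.simple k) t := by rw [hkj]; exact Subtype.ext ht
        rw [hZ, h2, (hβ k t).1, h1, Units.val_one, one_mul]
      · intro y hy
        rw [Subgroup.mem_subgroupOf, XV_neg_sr typeE6, mem_rootSubgroup_iff hE6] at hy
        obtain ⟨t, ht⟩ := hy
        have h2 : y = xS hE6 (chevE6.neg (chevE6.simple k)) t := by rw [hkj]; exact Subtype.ext ht
        rw [hZ, h2, (hβ k t).2, h1, inv_one, Units.val_one, one_mul]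
  have h3 : α = (α * (MulAut.conj g)⁻¹) * MulAut.conj g := by group
  rw [h3]
  exact mul_mem ((le_sup_left : cen P ≤ _) hβP) ((le_sup_right : Inn _ ≤ cen P ⊔ Inn _) ⟨g, rfl⟩)

end e6

end Cfsg.Agent.H618.AO
end
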